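import Groth.Agent.Lib.RepLocal.Sheaf
import Mathlib.AlgebraicGeometry.Gluing

/-!
# A Zariski sheaf covered by representable open subfunctors is representable
-/

set_option autoImplicit false
set_option linter.style.haveILetI false
set_option backward.isDefEq.respectTransparency false
universe v u

noncomputable section

open CategoryTheory CategoryTheory.Limits AlgebraicGeometry TopologicalSpace

namespace GrothLib.OpenRep26

open GrothLib.RepLocal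

variable {S : Scheme.{u}}

/-- Representable open subfunctors covering a presheaf. -/
structure Chart (P : Psh.{v} S) where
  /-- The index type. -/
  idx : Type u
  /-- The representing schemes. -/
  N : idx → Over S
  /-- Their sections. -/
  n : ∀ i, P.obj (N i)
  inj : ∀ i (T : Over S), Function.Injective fun a : T ⟶ N i => P.map a (n i)
  /-- The locus where a section comes from a chart. -/
  loc : ∀ (T : Over S), P.obj T → idx → T.left.Opens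
  mem_loc : ∀ (T : Over S) (x : P.obj T) (i : idx) (T' : Over S) (g : T' ⟶ T),
    Set.range g.left ⊆ (loc T x i : Set T.left) ↔ ∃ a, P.map a (n i) = P.map g x
  cover : ∀ (T : Over S) (x : P.obj T) (p : T.left), ∃ i, p ∈ loc T x i

namespace Chart

variable {P : Psh.{v} S} (𝔄 : Chart P)

/-- The overlap. -/
abbrev O (i j : 𝔄.idx) : (𝔄.N i).left.Opens := 𝔄.loc (𝔄.N i) (𝔄.n i) j

/-- The overlap as a scheme over the base. -/
abbrev W (i j : 𝔄.idx) : Over S := opn (𝔄.N i) (𝔄.O i j)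

/-- The inclusion of the overlap. -/
abbrev w (i j : 𝔄.idx) : 𝔄.W i j ⟶ 𝔄.N i := opnι (𝔄.N i) (𝔄.O i j)

theorem exists_change (i j : 𝔄.idx) : ∃ s : 𝔄.W i j ⟶ 𝔄.N j, P.map s (𝔄.n j) = P.map (𝔄.w i j) (𝔄.n i) :=
  (𝔄.mem_loc _ _ j _ (𝔄.w i j)).1 (by
    show Set.range (𝔄.O i j).ι ⊆ _
    rw [Scheme.Opens.range_ι])

/-- The change of chart. -/
def s (i j : 𝔄.idx) : 𝔄.W i j ⟶ 𝔄.N j := (𝔄.exists_change i j).choose

theorem map_s (i j : 𝔄.idx) : P.map (𝔄.s i j) (𝔄.n j) = P.map (𝔄.w i j) (𝔄.n i) :=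
  (𝔄.exists_change i j).choose_spec

theorem range_subset {Y : Over S} {i j : 𝔄.idx} (g : Y ⟶ 𝔄.N i) (b : Y ⟶ 𝔄.N j)
    (h : P.map b (𝔄.n j) = P.map g (𝔄.n i)) : Set.range g.left ⊆ Set.range (𝔄.O i j).ι := by
  rw [Scheme.Opens.range_ι]
  exact (𝔄.mem_loc _ _ j Y g).2 ⟨b, h⟩

theorem range_s (i j : 𝔄.idx) : Set.range (𝔄.s i j).left ⊆ Set.range (𝔄.O j i).ι :=
  𝔄.range_subset _ (𝔄.w i j) (𝔄.map_s i j).symm

/-- The transition map. -/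
def t (i j : 𝔄.idx) : (𝔄.O i j).toScheme ⟶ (𝔄.O j i).toScheme :=
  IsOpenImmersion.lift (𝔄.O j i).ι (𝔄.s i j).left (𝔄.range_s i j)

theorem t_ι (i j : 𝔄.idx) : 𝔄.t i j ≫ (𝔄.O j i).ι = (𝔄.s i j).left := IsOpenImmersion.lift_fac _ _ _

theorem s_self (i : 𝔄.idx) : 𝔄.s i i = 𝔄.w i i := 𝔄.inj i _ (𝔄.map_s i i)

theorem O_self (i : 𝔄.idx) : 𝔄.O i i = ⊤ :=
  top_le_iff.1 fun p _ => (𝔄.mem_loc _ _ i (𝔄.N i) (𝟙 _)).2 ⟨𝟙 _, rfl⟩ ⟨p, rfl⟩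

/-- Triple overlaps. -/
def V (i j k : 𝔄.idx) : Over S := Over.mk (pullback.fst (𝔄.O i j).ι (𝔄.O i k).ι ≫ (𝔄.W i j).hom)

/-- First projection. -/
def q₁ (i j k : 𝔄.idx) : 𝔄.V i j k ⟶ 𝔄.W i j := Over.homMk (pullback.fst (𝔄.O i j).ι (𝔄.O i k).ι) rfl

/-- Second projection. -/
def q₂ (i j k : 𝔄.idx) : 𝔄.V i j k ⟶ 𝔄.W i k := Over.homMk (pullback.snd (𝔄.O i j).ι (𝔄.O i k).ι) (by
  show pullback.snd (𝔄.O i j).ι (𝔄.O i k).ι ≫ (𝔄.O i k).ι ≫ (𝔄.N i).hom =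
    pullback.fst (𝔄.O i j).ι (𝔄.O i k).ι ≫ (𝔄.O i j).ι ≫ (𝔄.N i).hom
  exact (pullback.condition_assoc _).symm)

theorem q_w (i j k : 𝔄.idx) : 𝔄.q₁ i j k ≫ 𝔄.w i j = 𝔄.q₂ i j k ≫ 𝔄.w i k := by
  ext1
  exact pullback.condition

theorem range_q (i j k : 𝔄.idx) : Set.range (𝔄.q₁ i j k ≫ 𝔄.s i j).left ⊆ Set.range (𝔄.O j k).ι :=
  𝔄.range_subset _ (𝔄.q₂ i j k ≫ 𝔄.s i k) (by
    rw [P.map_comp, P.map_comp, map_s, map_s, ← P.map_comp, ← P.map_comp, q_w])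

/-- The map of triple overlaps. -/
def t' (i j k : 𝔄.idx) : pullback (𝔄.O i j).ι (𝔄.O i k).ι ⟶ pullback (𝔄.O j k).ι (𝔄.O j i).ι :=
  pullback.lift (IsOpenImmersion.lift (𝔄.O j k).ι (𝔄.q₁ i j k ≫ 𝔄.s i j).left (𝔄.range_q i j k))
    (pullback.fst _ _ ≫ 𝔄.t i j) (by
      rw [IsOpenImmersion.lift_fac, Category.assoc, t_ι]
      rfl)

theorem t'_fst (i j k : 𝔄.idx) :
    𝔄.t' i j k ≫ pullback.fst (𝔄.O j k).ι (𝔄.O j i).ι ≫ (𝔄.O j k).ι = (𝔄.q₁ i j k ≫ 𝔄.s i j).left := by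
  rw [t', pullback.lift_fst_assoc]
  exact IsOpenImmersion.lift_fac _ _ _

/-- The map of triple overlaps over the base. -/
def T (i j k : 𝔄.idx) : 𝔄.V i j k ⟶ 𝔄.V j k i := Over.homMk (𝔄.t' i j k) (by
  show 𝔄.t' i j k ≫ pullback.fst (𝔄.O j k).ι (𝔄.O j i).ι ≫ (𝔄.O j k).ι ≫ (𝔄.N j).hom = _
  rw [← Category.assoc (pullback.fst _ _), ← Category.assoc, t'_fst]
  exact Over.w (𝔄.q₁ i j k ≫ 𝔄.s i j))

theorem map_T (i j k : 𝔄.idx) {A : Over S} (x : A ⟶ 𝔄.V i j k) :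
    P.map ((x ≫ 𝔄.T i j k) ≫ 𝔄.q₁ j k i ≫ 𝔄.w j k) (𝔄.n j) = P.map (x ≫ 𝔄.q₁ i j k ≫ 𝔄.w i j) (𝔄.n i) := by
  have e : 𝔄.T i j k ≫ 𝔄.q₁ j k i ≫ 𝔄.w j k = 𝔄.q₁ i j k ≫ 𝔄.s i j := by
    ext1
    exact 𝔄.t'_fst i j k
  rw [Category.assoc, e, ← Category.assoc, P.map_comp, map_s, ← P.map_comp, Category.assoc]

theorem T_cocycle (i j k : 𝔄.idx) : 𝔄.T i j k ≫ 𝔄.T j k i ≫ 𝔄.T k i j = 𝟙 _ := by
  haveI : Mono ((𝔄.q₁ i j k ≫ 𝔄.w i j).left) := by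
    show Mono (pullback.fst (𝔄.O i j).ι (𝔄.O i k).ι ≫ (𝔄.O i j).ι)
    infer_instance
  haveI : Mono (𝔄.q₁ i j k ≫ 𝔄.w i j) := (Over.forget _).mono_of_mono_map ‹_›
  rw [← cancel_mono (𝔄.q₁ i j k ≫ 𝔄.w i j), Category.id_comp]
  refine 𝔄.inj i _ ?_
  show P.map _ _ = P.map _ _
  rw [show (𝔄.T i j k ≫ 𝔄.T j k i ≫ 𝔄.T k i j) ≫ 𝔄.q₁ i j k ≫ 𝔄.w i j =
    (((𝟙 _ ≫ 𝔄.T i j k) ≫ 𝔄.T j k i) ≫ 𝔄.T k i j) ≫ 𝔄.q₁ i j k ≫ 𝔄.w i j by simp only [Category.assoc, Category.id_comp],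
    map_T, map_T, map_T, Category.id_comp]

/-- The gluing data. -/
def glueData : Scheme.GlueData.{u} where
  J := 𝔄.idx
  U i := (𝔄.N i).left
  V := fun (i, j) => (𝔄.O i j).toScheme
  f i j := (𝔄.O i j).ι
  f_id i := by
    have : IsIso (𝔄.O i i).ι := by rw [O_self]; exact inferInstanceAs (IsIso (𝔄.N i).left.topIso.hom)
    exact this
  t := 𝔄.t
  t_id i := by
    rw [← cancel_mono (𝔄.O i i).ι, t_ι, Category.id_comp, s_self]
    rfl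
  t' := 𝔄.t'
  t_fac i j k := by
    rw [t', pullback.lift_snd]
  cocycle i j k := congrArg CategoryTheory.Over.Hom.left (𝔄.T_cocycle i j k)
  f_open i j := inferInstanceAs (IsOpenImmersion (𝔄.O i j).ι)

/-- The structure map. -/
def toBase : 𝔄.glueData.glued ⟶ S :=
  Multicoequalizer.desc _ _ (fun i => (𝔄.N i).hom) (by
    rintro ⟨i, j⟩
    show (𝔄.O i j).ι ≫ (𝔄.N i).hom = (𝔄.t i j ≫ (𝔄.O j i).ι) ≫ (𝔄.N j).hom
    rw [t_ι]
    exact (Over.w (𝔄.s i j)).symm)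

/-- The glued scheme over the base. -/
def X : Over S := Over.mk 𝔄.toBase

/-- The chart inclusion. -/
def c (i : 𝔄.idx) : 𝔄.N i ⟶ 𝔄.X := Over.homMk (𝔄.glueData.ι i) (Multicoequalizer.π_desc _ _ _ _ _)

instance (i : 𝔄.idx) : IsOpenImmersion (𝔄.c i).left := inferInstanceAs (IsOpenImmersion (𝔄.glueData.ι i))

theorem w_c (i j : 𝔄.idx) : 𝔄.w i j ≫ 𝔄.c i = 𝔄.s i j ≫ 𝔄.c j := by
  ext1
  show (𝔄.O i j).ι ≫ 𝔄.glueData.ι i = (𝔄.s i j).left ≫ 𝔄.glueData.ι j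
  rw [← t_ι]
  exact (𝔄.glueData.glue_condition i j).symm.trans (Category.assoc _ _ _).symm

theorem comp_c_eq_iff {i j : 𝔄.idx} {A : Over S} (a : A ⟶ 𝔄.N i) (b : A ⟶ 𝔄.N j) :
    a ≫ 𝔄.c i = b ≫ 𝔄.c j ↔ P.map a (𝔄.n i) = P.map b (𝔄.n j) := by
  refine ⟨fun h => ?_, fun h => ?_⟩
  · have h' : a.left ≫ 𝔄.glueData.ι i = b.left ≫ 𝔄.glueData.ι j := congrArg CategoryTheory.Over.Hom.left h
    obtain ⟨l, h1, h2⟩ := PullbackCone.IsLimit.lift' (𝔄.glueData.vPullbackConeIsLimit i j) a.left b.left h'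
    change l ≫ (𝔄.O i j).ι = a.left at h1
    change l ≫ 𝔄.t i j ≫ (𝔄.O j i).ι = b.left at h2
    have h2' : l ≫ (𝔄.s i j).left = b.left := (congrArg (l ≫ ·) (𝔄.t_ι i j)).symm.trans h2
    let x : A ⟶ 𝔄.W i j := Over.homMk l (by
      show l ≫ (𝔄.O i j).ι ≫ (𝔄.N i).hom = _
      rw [reassoc_of% h1]
      exact Over.w a)
    rw [show a = x ≫ 𝔄.w i j by ext1; exact h1.symm, show b = x ≫ 𝔄.s i j by ext1; exact h2'.symm,
      P.map_comp, P.map_comp, map_s]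
  · have hr := 𝔄.range_subset a b h.symm
    let x : A ⟶ 𝔄.W i j := Over.homMk (IsOpenImmersion.lift (𝔄.O i j).ι a.left hr) (by
      show _ ≫ (𝔄.O i j).ι ≫ (𝔄.N i).hom = _
      rw [IsOpenImmersion.lift_fac_assoc]
      exact Over.w a)
    have hx : x ≫ 𝔄.w i j = a := by ext1; exact IsOpenImmersion.lift_fac _ _ _
    have hx' : x ≫ 𝔄.s i j = b := 𝔄.inj j A (by
      show P.map _ _ = P.map _ _
      rw [P.map_comp, map_s, ← P.map_comp, hx, h])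
    rw [← hx, ← hx', Category.assoc, Category.assoc, w_c]

/-- The image of a chart. -/
abbrev R (i : 𝔄.idx) : 𝔄.X.left.Opens := (𝔄.c i).left.opensRange

theorem isOpenCover_R : IsOpenCover 𝔄.R :=
  IsOpenCover.mk (top_le_iff.1 fun p _ => by
    obtain ⟨i, q, hq⟩ := 𝔄.glueData.ι_jointly_surjective p
    exact Opens.mem_iSup.2 ⟨i, q, hq⟩)

theorem exists_back (i : 𝔄.idx) {A : Over S} (g : A ⟶ 𝔄.X) (hg : Set.range g.left ⊆ (𝔄.R i : Set 𝔄.X.left)) :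
    ∃ a : A ⟶ 𝔄.N i, a ≫ 𝔄.c i = g := by
  refine ⟨Over.homMk (IsOpenImmersion.lift (𝔄.c i).left g.left hg) ?_, ?_⟩
  · rw [← Over.w (𝔄.c i), IsOpenImmersion.lift_fac_assoc]
    exact Over.w g
  · ext1
    exact IsOpenImmersion.lift_fac _ _ _

theorem range_opnι_le {A : Over S} {V : A.left.Opens} {W : Set A.left} (h : (V : Set A.left) ⊆ W) :
    Set.range (opnι A V).left ⊆ W := by
  show Set.range V.ι ⊆ W
  rwa [Scheme.Opens.range_ι]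

include 𝔄 in
/-- The glued scheme represents the presheaf. -/
theorem exists_representing (hP : IsSheaf P) :
    ∃ (M : Over S) (m : P.obj M), ∀ (T : Over S) (x : P.obj T), ∃! a : T ⟶ M, P.map a m = x := by
  choose r hr using fun i => 𝔄.exists_back i (opnι 𝔄.X (𝔄.R i)) (range_opnι_le le_rfl)
  obtain ⟨m, hm, -⟩ := hP 𝔄.X 𝔄.R 𝔄.isOpenCover_R (fun i => P.map (r i) (𝔄.n i)) fun i j => by
    rw [← P.map_comp, ← P.map_comp, ← comp_c_eq_iff, Category.assoc, Category.assoc, hr, hr, opnMap_opnι, opnMap_opnι]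
  have hmc : ∀ i, P.map (𝔄.c i) m = 𝔄.n i := by
    intro i
    have hl : Set.range (𝔄.c i).left ⊆ Set.range (opnι 𝔄.X (𝔄.R i)).left := by
      show _ ⊆ Set.range (𝔄.R i).ι
      rw [Scheme.Opens.range_ι]
      exact subset_rfl
    let e : 𝔄.N i ⟶ opn 𝔄.X (𝔄.R i) := Over.homMk (IsOpenImmersion.lift (𝔄.R i).ι (𝔄.c i).left hl)
      ((IsOpenImmersion.lift_fac_assoc _ _ _ _).trans (Over.w (𝔄.c i)))
    have he : e ≫ opnι 𝔄.X (𝔄.R i) = 𝔄.c i := by ext1; exact IsOpenImmersion.lift_fac _ _ _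
    calc P.map (𝔄.c i) m = P.map e (P.map (r i) (𝔄.n i)) := by rw [← he, P.map_comp, hm]
      _ = 𝔄.n i := by
          rw [← P.map_comp, ← P.map_id (𝔄.N i) (𝔄.n i), P.map_id (𝔄.N i) (𝔄.n i)]
          refine ((comp_c_eq_iff 𝔄 (e ≫ r i) (𝟙 _)).1 ?_).trans (P.map_id _ _)
          rw [Category.assoc, hr, he, Category.id_comp]
  refine ⟨𝔄.X, m, fun T x => ?_⟩
  have hV : IsOpenCover (fun i => 𝔄.loc T x i) := IsOpenCover.mk (top_le_iff.1 fun p _ => by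
    obtain ⟨i, hi⟩ := 𝔄.cover T x p
    exact Opens.mem_iSup.2 ⟨i, hi⟩)
  choose a ha using fun i => (𝔄.mem_loc T x i _ (opnι T (𝔄.loc T x i))).1 (range_opnι_le le_rfl)
  obtain ⟨b, hb⟩ := exists_glue_opens _ hV (fun i => a i ≫ 𝔄.c i) fun i j => by
    rw [← Category.assoc, ← Category.assoc, comp_c_eq_iff, P.map_comp, P.map_comp, ha, ha, ← P.map_comp, ← P.map_comp,
      opnMap_opnι, opnMap_opnι]
  refine ⟨b, hP.ext _ hV fun i => ?_, fun b' hb' => ?_⟩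
  · rw [← P.map_comp, hb, P.map_comp, hmc, ha]
  · refine (hom_ext_opens _ hV fun i => ?_).symm
    refine hom_ext_opens (fun j => (opnι T (𝔄.loc T x i) ≫ b').left ⁻¹ᵁ 𝔄.R j) (IsOpenCover.mk (top_le_iff.1 fun p _ => by
      obtain ⟨j, hj⟩ := Opens.mem_iSup.1 (𝔄.isOpenCover_R.iSup_eq_top.ge
        (Opens.mem_top ((opnι T (𝔄.loc T x i) ≫ b').left p)))
      exact Opens.mem_iSup.2 ⟨j, hj⟩)) fun j => ?_
    obtain ⟨a', ha'⟩ := 𝔄.exists_back j (opnι (opn T (𝔄.loc T x i)) ((opnι T (𝔄.loc T x i) ≫ b').left ⁻¹ᵁ 𝔄.R j) ≫ opnι T (𝔄.loc T x i) ≫ b') (by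
      rintro _ ⟨p, rfl⟩
      exact p.2)
    rw [hb, ← ha', ← Category.assoc, comp_c_eq_iff, ← hmc j, ← P.map_comp, ha', P.map_comp, P.map_comp, P.map_comp, hb', ha]

end Chart

end GrothLib.OpenRep26
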